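import Cfsg.Agent.Lib.Spor.McLStab.Data
import Cfsg.Agent.Lib.Spor.McLPerm.Group
import Cfsg.Agent.Lib.Lie.MultExc.UFourThree.Group

/-!
The point stabilizer of the McLaughlin group on 275 points is the projective special unitary group of dimension
four over three elements: the hom on an invariant family of 540 sets.
-/

set_option autoImplicit false
set_option maxRecDepth 100000
set_option exponentiation.threshold 300

namespace CfsgLib.Spor.McLStab

open Cfsg MulAction CfsgLib.Spor.Leech CfsgLib.Spor.Leech.Census32 CfsgLib.Spor.McLPerm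

local notation "R275" => CfsgLib.Spor.McLPerm.eltRows
local notation "tab540" => CfsgLib.Lie.MultExc.UFourThree.tab

/-- An image under a packed permutation. -/
def img (g x : ℕ) : ℕ := (g >>> (9 * x)) &&& 511

/-- The products of the factors are the two elements, and they fix the first point. -/
noncomputable def factorsOK : Bool :=
  (List.range 2).all fun s =>
    let us := factors.getD s []
    let g := images.getD s 0
    (us.all fun u => Nat.blt u 891) && Nat.beq (img g 0) 0 &&
      (List.range 275).all fun x => Nat.beq (us.foldr (fun u b => McLPerm.look R275 u b) x) (img g x)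

theorem factors_ok : factorsOK = true := by decide +kernel

/-- A set goes to another. -/
def moveOK (g S T : ℕ) : Bool :=
  (List.range 275).all fun x => S.testBit x == T.testBit (img g x)

/-- The two elements move the sets as the two generators move the points. -/
def familyOK : Bool :=
  (List.range 2).all fun s => (List.range 540).all fun i =>
    moveOK (images.getD s 0) (masks.getD i 0)
      (masks.getD (CfsgLib.Spor.PermCert.look (tab540).w (tab540).R s i) 0) &&
    Nat.blt (CfsgLib.Spor.PermCert.look (tab540).w (tab540).R s i) 540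

theorem family_ok : familyOK = true := by decide +kernel

theorem masks_ok : masks.length = 540 ∧ masks.Nodup ∧ (masks.all fun m => Nat.blt m (2 ^ 275)) = true ∧
    (tab540).ngen = 2 ∧ ((tab540).trans.map List.length).prod = 3265920 := by decide +kernel

/-- Membership in a set of the family. -/
def bit (i : Fin 540) (x : Fin 275) : Bool := (masks.getD i.1 0).testBit x.1

theorem bit_inj {i j : Fin 540} (h : ∀ x, bit i x = bit j x) : i = j := by
  obtain ⟨hl, hnd, hlt, -, -⟩ := masks_ok
  simp only [List.all_eq_true] at hlt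
  have hm : ∀ k : Fin 540, masks.getD k.1 0 < 2 ^ 275 := fun k => by
    rw [List.getD_eq_getElem _ _ (by rw [hl]; exact k.2)]
    exact Nat.le_of_ble_eq_true (hlt _ (List.getElem_mem _))
  have e : masks.getD i.1 0 = masks.getD j.1 0 := Nat.eq_of_testBit_eq fun x => by
    by_cases hx : x < 275
    · exact h ⟨x, hx⟩
    · rw [Nat.testBit_lt_two_pow ((hm i).trans_le (Nat.pow_le_pow_right (by norm_num) (by omega))),
        Nat.testBit_lt_two_pow ((hm j).trans_le (Nat.pow_le_pow_right (by norm_num) (by omega)))]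
  rw [List.getD_eq_getElem _ _ (by rw [hl]; exact i.2), List.getD_eq_getElem _ _ (by rw [hl]; exact j.2),
    hnd.getElem_inj_iff] at e
  exact Fin.ext e

/-- The permutations respecting the family. -/
def Good (g : Equiv.Perm (Fin 275)) : Prop := ∀ i : Fin 540, ∃ j : Fin 540, ∀ x, bit i x = bit j (g x)

theorem exists_gen (s : Fin 2) :
    ∃ a ∈ P, a (McLPerm.pnt 0) = McLPerm.pnt 0 ∧
      ∀ i : Fin 540, ∃ j : Fin 540, j.1 = CfsgLib.Spor.PermCert.look (tab540).w (tab540).R s.1 i.1 ∧
        ∀ x, bit i x = bit j (a x) := by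
  have h1 := factors_ok
  simp only [factorsOK, List.all_eq_true, List.mem_range, Bool.and_eq_true] at h1
  obtain ⟨⟨hu, h0⟩, himg⟩ := h1 s.1 s.2
  have key : ∀ us : List ℕ, (∀ u ∈ us, u < 891) → ∃ g ∈ P, ∀ x : Fin 275,
      (g x).1 = us.foldr (fun u b => McLPerm.look R275 u b) x.1 := by
    intro us
    induction us with
    | nil => exact fun _ => ⟨1, one_mem _, fun x => rfl⟩
    | cons u us ih =>
      intro hus
      obtain ⟨g, hg, hgx⟩ := ih fun v hv => hus v (List.mem_cons_of_mem _ hv)
      obtain ⟨a, ha, hax⟩ := elt_mem (hus u List.mem_cons_self)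
      refine ⟨a * g, mul_mem ha hg, fun x => ?_⟩
      rw [Equiv.Perm.mul_apply, List.foldr_cons, hax, hgx]
  obtain ⟨a, ha, hax⟩ := key _ fun u hu' => Nat.le_of_ble_eq_true (hu u hu')
  have hax' : ∀ x : Fin 275, (a x).1 = img (images.getD s.1 0) x.1 := fun x => by
    rw [hax x, Nat.eq_of_beq_eq_true (himg x.1 x.2)]
  refine ⟨a, ha, Fin.ext ((hax' _).trans ((Nat.eq_of_beq_eq_true h0).trans rfl)), fun i => ?_⟩
  have h2 := family_ok
  simp only [familyOK, moveOK, List.all_eq_true, List.mem_range, Bool.and_eq_true, beq_iff_eq] at h2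
  obtain ⟨hmv, hlt⟩ := h2 s.1 s.2 i.1 i.2
  refine ⟨⟨_, Nat.le_of_ble_eq_true hlt⟩, rfl, fun x => ?_⟩
  show _ = (masks.getD _ 0).testBit (a x).1
  rw [hax' x]
  exact hmv x.1 x.2

/-- The stabilizer of the triple. -/
noncomputable abbrev K0 : Subgroup ↥G0 := stabilizer ↥G0 (xBL : leechLattice)

theorem card_K0 : Nat.card ↥K0 * 275 ≤ 898128000 := by
  haveI : Finite ↥G0 := Nat.finite_of_card_ne_zero (by rw [card_G0]; norm_num)
  have hsub : pickL testsB ⊆ orbit ↥G0 (xBL : leechLattice) := fun y hy => by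
    obtain ⟨k, hk, rfl⟩ := transB y hy
    exact ⟨⟨k, hk (u3L, 24) (by simp [testsB]), hk (v1L, 16) (by simp [testsB])⟩, rfl⟩
  have h := Nat.card_congr (orbitProdStabilizerEquivGroup ↥G0 (xBL : leechLattice))
  rw [Nat.card_prod, card_G0] at h
  have hfin : (orbit ↥G0 (xBL : leechLattice)).Finite := Set.finite_range _
  have h275 : 275 ≤ Nat.card (orbit ↥G0 (xBL : leechLattice)) := by
    rw [Nat.card_coe_set_eq, ← ncardB]
    exact Set.ncard_le_ncard hsub hfin
  rw [← h, mul_comm]
  exact Nat.mul_le_mul h275 le_rfl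

theorem xBL_vec : (xBL : leechLattice) = (vec ⟨0, by norm_num⟩).1 :=
  congrArg Subtype.val (vec_eq (y := ⟨xBL, memB⟩) (i := ⟨0, by norm_num⟩) code_facts.1.symm)

/-- The point stabilizer is the unitary group. -/
theorem exists_equiv (F : Type) [Field F] [Fintype F] (hF : Fintype.card F = 9) :
    Nonempty (↥K0 ≃* Cfsg.PSU 4 F 3) := by
  obtain ⟨H, M, ⟨eH⟩⟩ := CfsgLib.Lie.MultExc.UFourThree.exists_model_u43 hF
  obtain ⟨σ, hσ, hcl⟩ := M.gens
  obtain ⟨-, -, -, hngen, hprod⟩ := masks_ok
  choose a ha ha0 hj using exists_gen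
  have hgood : ∀ g ∈ Subgroup.closure (Set.range a), Good g := by
    intro g hg
    rw [← Subgroup.mem_toSubmonoid, Subgroup.closure_toSubmonoid_of_finite] at hg
    induction hg using Submonoid.closure_induction with
    | mem x hx =>
      obtain ⟨s, rfl⟩ := hx
      intro i
      obtain ⟨j, -, h⟩ := hj s i
      exact ⟨j, h⟩
    | one => exact fun i => ⟨i, fun x => rfl⟩
    | mul x y _ _ hx hy =>
      intro i
      obtain ⟨j, hj⟩ := hy i
      obtain ⟨k, hk⟩ := hx j
      exact ⟨k, fun z => (hj z).trans (hk (y z))⟩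
  set K := Subgroup.closure (Set.range a) with hK
  choose act hact using fun (g : ↥K) => hgood g.1 g.2
  have hactu : ∀ (g : ↥K) i j, (∀ x, bit i x = bit j (g.1 x)) → act g i = j := fun g i j h =>
    bit_inj fun y => by
      obtain ⟨x, rfl⟩ := g.1.surjective y
      rw [← hact g i x, h x]
  have hone : ∀ i, act 1 i = i := fun i => hactu 1 i i fun x => rfl
  have hmul : ∀ g h i, act (g * h) i = act g (act h i) := fun g h i => hactu _ _ _ fun x => by
    rw [hact h i x, hact g (act h i) (h.1 x)]
    rfl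
  let psi : ↥K →* Equiv.Perm (Fin 540) :=
    { toFun := fun g =>
        { toFun := act g
          invFun := act g⁻¹
          left_inv := fun i => by rw [← hmul, inv_mul_cancel, hone]
          right_inv := fun i => by rw [← hmul, mul_inv_cancel, hone] }
      map_one' := Equiv.ext hone
      map_mul' := fun g h => Equiv.ext (hmul g h) }
  have hrange : H ≤ psi.range := by
    rw [← hcl, Subgroup.closure_le]
    rintro _ ⟨s, hs, rfl⟩
    have hs2 : s < 2 := hngen ▸ hs
    refine ⟨⟨a ⟨s, hs2⟩, Subgroup.subset_closure ⟨_, rfl⟩⟩, Equiv.ext fun i => Fin.ext ?_⟩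
    obtain ⟨j, hjv, hjx⟩ := hj ⟨s, hs2⟩ i
    rw [hσ s hs i, ← hjv]
    exact congrArg Fin.val (hactu _ i j hjx)
  have hKle : K ≤ K0.map rho := by
    rw [hK, Subgroup.closure_le]
    rintro _ ⟨s, rfl⟩
    obtain ⟨g, hg⟩ := ha s
    refine ⟨g, ?_, hg⟩
    show g • (xBL : leechLattice) = xBL
    have h0 : McLPerm.act g ⟨0, by norm_num⟩ = (⟨0, by norm_num⟩ : Fin 275) := by
      have h := ha0 s
      rw [← hg] at h
      exact h
    conv_lhs => rw [xBL_vec]
    show g.1 • (vec ⟨0, _⟩).1 = _
    rw [← vec_act g, xBL_vec]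
    exact congrArg (fun i => (vec i).1) h0
  haveI : Finite ↥G0 := Nat.finite_of_card_ne_zero (by rw [card_G0]; norm_num)
  have hc1 : Nat.card ↥H ≤ Nat.card ↥psi.range := Nat.le_of_dvd Nat.card_pos (Subgroup.card_dvd_of_le hrange)
  have hc2 : Nat.card ↥psi.range ≤ Nat.card ↥K := Nat.card_le_card_of_surjective psi.rangeRestrict psi.rangeRestrict_surjective
  have hc3 : Nat.card ↥K ≤ Nat.card ↥K0 := by
    rw [← Subgroup.card_map_of_injective (f := rho) rho_injective]
    exact Nat.le_of_dvd Nat.card_pos (Subgroup.card_dvd_of_le hKle)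
  have hH : Nat.card ↥H = 3265920 := M.card.trans hprod
  have hK0 := card_K0
  have hKeq : K = K0.map rho := by
    refine Subgroup.eq_of_le_of_card_ge hKle ?_
    rw [Subgroup.card_map_of_injective (f := rho) rho_injective]
    omega
  have hR : psi.range = H := (Subgroup.eq_of_le_of_card_ge hrange (by omega)).symm
  have hbij : Function.Bijective psi.rangeRestrict :=
    (Nat.bijective_iff_surjective_and_card psi.rangeRestrict).2 ⟨psi.rangeRestrict_surjective, by omega⟩
  exact ⟨(K0.equivMapOfInjective rho rho_injective).trans ((MulEquiv.subgroupCongr hKeq.symm).trans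
    ((MulEquiv.ofBijective psi.rangeRestrict hbij).trans ((MulEquiv.subgroupCongr hR).trans eH)))⟩

/-- The stabilizer of a triangle and a point. -/
theorem stab_triple (u v x : leechLattice) (hu : sqNorm (u : GolayPt → ℤ) = 48)
    (hv : sqNorm (v : GolayPt → ℤ) = 32 ∧ sqNorm ((u - v : leechLattice) : GolayPt → ℤ) = 32)
    (hx : x ∈ pickL [(u, (24 : ℤ)), (v, 16)]) :
    Nonempty (↥(stabilizer ↥Co0 u ⊓ stabilizer ↥Co0 v ⊓ stabilizer ↥Co0 x) ≃* ↥K0) := by
  obtain ⟨g, hg⟩ := normal_mcl hu hv 24 16
  have hx' : g • x ∈ pickL testsB := by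
    have hg' : moveT g [(u, (24 : ℤ)), (v, 16)] = testsB := hg
    rw [← hg']
    exact mem_pickL_move.2 hx
  obtain ⟨k, hk, hkx⟩ := transB _ hx'
  simp only [moveT, testsB, List.map_cons, List.map_nil, List.cons.injEq, Prod.mk.injEq, and_true] at hg
  have e1 : (k⁻¹ * g) • u = u3L := by
    rw [mul_smul, hg.1, inv_smul_eq_iff, hk (u3L, 24) (by simp [testsB])]
  have e2 : (k⁻¹ * g) • v = v1L := by
    rw [mul_smul, hg.2, inv_smul_eq_iff, hk (v1L, 16) (by simp [testsB])]
  have e3 : (k⁻¹ * g) • x = xBL := by rw [mul_smul, ← hkx, inv_smul_smul]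
  have hconj : (stabilizer ↥Co0 u ⊓ stabilizer ↥Co0 v ⊓ stabilizer ↥Co0 x).map (MulAut.conj (k⁻¹ * g)).toMonoidHom =
      G0 ⊓ stabilizer ↥Co0 (xBL : leechLattice) := by
    rw [Subgroup.map_inf _ _ _ (MulAut.conj _).injective, Subgroup.map_inf _ _ _ (MulAut.conj _).injective]
    congr 1
    · congr 1
      · exact (stabilizer_smul_eq_stabilizer_map_conj _ _).symm.trans (by rw [e1])
      · exact (stabilizer_smul_eq_stabilizer_map_conj _ _).symm.trans (by rw [e2])
    · exact (stabilizer_smul_eq_stabilizer_map_conj _ _).symm.trans (by rw [e3])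
  have hK : (G0 ⊓ stabilizer ↥Co0 (xBL : leechLattice)).subgroupOf G0 = K0 := by
    ext h
    simp [Subgroup.mem_subgroupOf, mem_stabilizer_iff, Subgroup.smul_def]
  exact ⟨((MulAut.conj (k⁻¹ * g)).subgroupMap _).trans ((MulEquiv.subgroupCongr hconj).trans
    ((Subgroup.subgroupOfEquivOfLe inf_le_left).symm.trans (MulEquiv.subgroupCongr hK)))⟩

end CfsgLib.Spor.McLStab
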